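import Groth.Agent.Lib.RootComb21.Exchange
import Groth.Agent.Lib.RootD.Dual

/-!
Closed sets of roots without opposite pairs lie in a positive system.
-/

namespace Groth.Agent.RootClosed19

open RootPairing Set Function Groth.Agent.RootDLib

variable {ι M N : Type} [AddCommGroup M] [AddCommGroup N] {P : RootPairing ι ℤ M N} [Finite ι]

/-- A closed set without opposite pairs has pointed cone. -/
lemma eq_zero_of_mem_of_neg_mem {S : Set ι} (hcl : RootD.IsClosedSub P S)
    (hneg : ∀ a ∈ S, ng P a ∉ S) {x : M} (hx : x ∈ RootD.natSpan P S)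
    (hx' : -x ∈ RootD.natSpan P S) : x = 0 := by
  obtain ⟨l, hl, rfl⟩ := (mem_natSpan_iff P).1 hx
  cases l with
  | nil => simp
  | cons a t =>
    refine absurd (mem_of_closed P hcl ?_) (hneg a (hl a (by simp)))
    have he : P.root (ng P a) = (t.map P.root).sum + -((a :: t).map P.root).sum := by
      simp [root_ng]
    rw [he]
    exact add_mem ((mem_natSpan_iff P).2 ⟨t, fun b hb => hl b (by simp [hb]), rfl⟩) hx'

lemma exists_neg_zsmul_mem {S : Set ι} (hcl : RootD.IsClosedSub P S)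
    (hneg : ∀ a ∈ S, ng P a ∉ S)
    (hmax : ∀ T : Set ι, S ⊆ T → RootD.IsClosedSub P T → (∀ a ∈ T, ng P a ∉ T) → T ⊆ S)
    {a : ι} (ha : a ∉ S) : ∃ n : ℤ, 0 < n ∧ -(n • P.root a) ∈ RootD.natSpan P S := by
  let C : AddSubmonoid M :=
    { carrier := {x | ∃ p ∈ RootD.natSpan P S, ∃ n : ℤ, 0 ≤ n ∧ x = p + n • P.root a}
      zero_mem' := ⟨0, zero_mem _, 0, le_rfl, by simp⟩
      add_mem' := by
        rintro x y ⟨p, hp, n, hn, rfl⟩ ⟨q, hq, m, hm, rfl⟩
        exact ⟨p + q, add_mem hp hq, n + m, add_nonneg hn hm, by rw [add_smul]; abel⟩ }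
  let T : Set ι := {c | P.root c ∈ C}
  have hST : S ⊆ T := fun c hc => ⟨_, root_mem_natSpan P hc, 0, le_rfl, by simp⟩
  have haT : a ∈ T := ⟨0, zero_mem _, 1, zero_le_one, by simp⟩
  have hT : RootD.IsClosedSub P T := fun i j k hi hj hk => by
    change P.root k ∈ C
    rw [hk]; exact add_mem hi hj
  by_contra hno
  refine ha (hmax T hST hT (fun c hc hc' => hno ?_) haT)
  obtain ⟨p, hp, n, hn, e⟩ := hc
  obtain ⟨q, hq, m, hm, e'⟩ := hc'
  rw [root_ng, e] at e'
  have hz : (p + q) + (n + m) • P.root a = 0 := by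
    rw [add_smul]
    linear_combination (norm := abel) -e'
  rcases (add_nonneg hn hm).eq_or_lt with h0 | hpos
  · exfalso
    obtain ⟨rfl, rfl⟩ : n = 0 ∧ m = 0 := by omega
    have hqp : q = -p := by
      rw [add_zero, zero_smul, add_zero] at hz
      exact eq_neg_of_add_eq_zero_right hz
    have := eq_zero_of_mem_of_neg_mem hcl hneg hp (hqp ▸ hq)
    exact root_ne_zero P c (by rw [e, this]; simp)
  · exact ⟨n + m, hpos, by
      rw [← eq_neg_of_add_eq_zero_left hz]; exact add_mem hp hq⟩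

/-- A maximal closed set without opposite pairs meets every pair of opposite roots. -/
lemma cover_of_maximal {S : Set ι} (hcl : RootD.IsClosedSub P S)
    (hneg : ∀ a ∈ S, ng P a ∉ S)
    (hmax : ∀ T : Set ι, S ⊆ T → RootD.IsClosedSub P T → (∀ a ∈ T, ng P a ∉ T) → T ⊆ S) (a : ι) :
    a ∈ S ∨ ng P a ∈ S := by
  by_contra hno
  rw [not_or] at hno
  obtain ⟨n, hn, hn'⟩ := exists_neg_zsmul_mem hcl hneg hmax hno.1
  obtain ⟨m, hm, hm'⟩ := exists_neg_zsmul_mem hcl hneg hmax hno.2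
  rw [root_ng, smul_neg, neg_neg] at hm'
  have h1 : (m * n) • P.root a ∈ RootD.natSpan P S := by
    rw [mul_comm, mul_smul, ← Int.toNat_of_nonneg hn.le, natCast_zsmul]
    exact nsmul_mem hm' _
  have h2 : -((m * n) • P.root a) ∈ RootD.natSpan P S := by
    rw [mul_smul, ← smul_neg, ← Int.toNat_of_nonneg hm.le, natCast_zsmul]
    exact nsmul_mem hn' _
  have := torsionFree P
  have := eq_zero_of_mem_of_neg_mem hcl hneg h1 h2
  simp [hn.ne', hm.ne', root_ne_zero] at this

/-- A closed set without opposite pairs is contained in one which is maximal. -/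
lemma exists_maximal {S : Set ι} (hcl : RootD.IsClosedSub P S) (hneg : ∀ a ∈ S, ng P a ∉ S) :
    ∃ S' : Set ι, S ⊆ S' ∧ RootD.IsClosedSub P S' ∧ (∀ a ∈ S', ng P a ∉ S') ∧
      ∀ T : Set ι, S' ⊆ T → RootD.IsClosedSub P T → (∀ a ∈ T, ng P a ∉ T) → T ⊆ S' := by
  obtain ⟨m, ⟨h1, h2, h3⟩, hm⟩ := (Set.toFinite
    {T : Set ι | S ⊆ T ∧ RootD.IsClosedSub P T ∧ ∀ a ∈ T, ng P a ∉ T}).exists_maximal
      ⟨S, Subset.rfl, hcl, hneg⟩
  exact ⟨m, h1, h2, h3, fun T hT hTc hTn => hm ⟨h1.trans hT, hTc, hTn⟩ hT⟩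

/-- A reduced root pairing over `ℤ` has a base. -/
lemma nonempty_base [P.IsReduced] : Nonempty P.Base := by
  obtain ⟨Δ, hΔ⟩ := exists_isSimpleSys (P := P)
  haveI := torsionFree P
  haveI := torsionFree' P
  have h2 : ∀ i j : ι, (2 : ℤ) • P.coroot j ≠ P.coroot i := fun i j h =>
    RootComb21.root_ne_two_smul i j (P.flip.smul_coroot_eq_of_root_eq_smul j i 2 h.symm).symm
  have hD : {j : ι | ∃ i ∈ Δ, (j = i ∧ RootD.IsIndiv P.flip i) ∨
      (2 : ℤ) • P.coroot j = P.coroot i} = Δ := by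
    ext j
    exact ⟨fun ⟨i, hi, h⟩ => h.elim (fun h => h.1 ▸ hi) fun h => absurd h (h2 i j),
      fun hj => ⟨j, hj, Or.inl ⟨rfl, fun l hl => h2 j l hl⟩⟩⟩
  have hF : RootD.IsSimpleSys P.flip Δ := hD ▸ isSimpleSys_flip hΔ
  exact ⟨{ support := (Set.toFinite Δ).toFinset
           linearIndepOn_root := by simpa using hΔ.linInd
           linearIndepOn_coroot := by simpa using hF.linInd
           root_mem_or_neg_mem := fun i => by simpa [RootD.natSpan] using hΔ.mem_or_neg_mem i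
           coroot_mem_or_neg_mem := fun i => by simpa [RootD.natSpan] using hF.mem_or_neg_mem i }⟩

/-- A closed set without opposite pairs lies in a positive system. -/
theorem exists_subset_posRoots [P.IsReduced] {S : Set ι} (hcl : RootD.IsClosedSub P S)
    (hneg : ∀ a ∈ S, ng P a ∉ S) : ∃ b : P.Base, S ⊆ RedSub.posRoots P b := by
  obtain ⟨S', h1, h2, h3, h4⟩ := exists_maximal hcl hneg
  obtain ⟨b₀⟩ := nonempty_base (P := P)
  obtain ⟨b, hb⟩ := RootComb21.exists_posRoots_subset b₀ h2 (cover_of_maximal h2 h3 h4)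
  refine ⟨b, fun a ha => ?_⟩
  by_contra hna
  exact h3 a (h1 ha) (hb ((not_mem_posOf_iff (RootComb21.isSimpleSys_support b)).1 hna))

end Groth.Agent.RootClosed19
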